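import Cfsg.Agent.H90.TensorWreathSU.Jordan
import Cfsg.Agent.H58.Wreath.SU.CentreAll

/-!
A factor with a non-scalar layer: the span of the layer coefficients is invariant and closed, and if it is
everything all transvections occur.
-/

set_option autoImplicit false
set_option linter.unusedSectionVars false
set_option maxHeartbeats 400000

namespace Cfsg.Agent.H90.TensorWreathSU

open Matrix
open Cfsg.Agent.H99.Tensor
open Cfsg.Agent.H99.TensorU (sp InLay)
open Cfsg.Agent.H5.C7 (wm sl rI slotM)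
open Cfsg.Agent.H58.Wreath.SU
open scoped Kronecker

section Two

variable {F : Type*} [Field F] [StarRing F] [Finite F] {α : Type} [Fintype α] [DecidableEq α] {b : ℕ}
  {M : Subgroup (GL (α × Fin b) F)}

/-- The span of the coefficients of the layers. -/
def laySpan (M : Subgroup (GL (α × Fin b) F)) : Submodule F (Matrix α α F) :=
  Submodule.span F {G | InLay M G}

theorem mem_laySpan {G : Matrix α α F} (h : InLay M G) : G ∈ laySpan M := Submodule.subset_span h

theorem laySpan_map (f : Matrix α α F →ₗ[F] Matrix α α F) (hf : ∀ G, InLay M G → f G ∈ laySpan M)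
    {X : Matrix α α F} (hX : X ∈ laySpan M) : f X ∈ laySpan M :=
  (Submodule.span_le (p := (laySpan M).comap f)).2 (fun G hG => hf G hG) hX

/-- Conjugation by a member from the left factor. -/
theorem laySpan_conj (H : Ctx M) {P : Matrix α α F} {c : F} (hc : c * star c = 1)
    (hP : InM M ((c • P) ⊗ₖ (1 : Matrix (Fin b) (Fin b) F))) {X : Matrix α α F} (hX : X ∈ laySpan M) :
    P * X * Pᴴ ∈ laySpan M := by
  refine laySpan_map ((LinearMap.mulRight F Pᴴ).comp (LinearMap.mulLeft F P)) (fun G hG => mem_laySpan ?_) hX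
  intro w hw
  have := H.conj (hG w hw) hP
  rw [H99.TensorU.kron_conjTranspose, ← mul_kronecker_mul, ← mul_kronecker_mul, conjTranspose_one, Matrix.one_mul,
    Matrix.mul_one, conjTranspose_smul, Matrix.smul_mul, Matrix.smul_mul, Matrix.mul_smul, smul_smul, hc,
    one_smul] at this
  exact this

theorem one_mem_laySpan (H : Ctx M) : (1 : Matrix α α F) ∈ laySpan M := by
  obtain ⟨d, hd0, hd⟩ := H99.TensorU.exists_skew H.ns
  have := (laySpan M).smul_mem d⁻¹ (mem_laySpan (H.inLay_one (α := α) hd))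
  rwa [smul_smul, inv_mul_cancel₀ hd0, one_smul] at this

/-- The skew members of the span are coefficients. -/
theorem inLay_of_mem (H : Ctx M) {X : Matrix α α F} (hX : X ∈ laySpan M) (hskew : Xᴴ = -X) : InLay M X := by
  obtain ⟨ξ, hξ⟩ := H.ns
  have hξ' : ξ - star ξ ≠ 0 := sub_ne_zero.2 hξ.symm
  have hdec : ∀ a : F, ∃ a₀ a₁ : F, star a₀ = a₀ ∧ star a₁ = a₁ ∧ a = a₀ + a₁ * ξ := fun a => by
    have h1 : star ((a - star a) / (ξ - star ξ)) = (a - star a) / (ξ - star ξ) := by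
      rw [star_div₀, star_sub, star_sub, star_star, star_star, ← neg_div_neg_eq, neg_sub, neg_sub]
    refine ⟨a - (a - star a) / (ξ - star ξ) * ξ, (a - star a) / (ξ - star ξ), ?_, h1, by ring⟩
    rw [star_sub, star_mul', h1]
    have := div_mul_cancel₀ (a - star a) hξ'
    linear_combination this
  have hmem : ∃ V W : Matrix α α F, InLay M V ∧ InLay M W ∧ X = V + ξ • W := by
    unfold laySpan at hX
    clear hskew
    induction hX using Submodule.span_induction with
    | mem G hG => exact ⟨G, 0, hG, H.inLay_zero, by simp⟩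
    | zero => exact ⟨0, 0, H.inLay_zero, H.inLay_zero, by simp⟩
    | add p q _ _ hp hq =>
      obtain ⟨V, W, hV, hW, rfl⟩ := hp
      obtain ⟨V', W', hV', hW', rfl⟩ := hq
      exact ⟨V + V', W + W', H.inLay_add hV hV', H.inLay_add hW hW', by module⟩
    | smul a p _ hp =>
      obtain ⟨V, W, hV, hW, rfl⟩ := hp
      obtain ⟨a₀, a₁, h₀, h₁, ha⟩ := hdec a
      obtain ⟨e₀, e₁, g₀, g₁, he⟩ := hdec (ξ * ξ)
      refine ⟨a₀ • V + (a₁ * e₀) • W, a₁ • V + (a₀ + a₁ * e₁) • W,
        H.inLay_add (H.inLay_fixed hV h₀) (H.inLay_fixed hW (by rw [star_mul', h₁, g₀])),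
        H.inLay_add (H.inLay_fixed hV h₁) (H.inLay_fixed hW (by rw [star_add, star_mul', h₀, h₁, g₁])), ?_⟩
      rw [ha]
      match_scalars
      · ring
      · linear_combination a₁ * he
  obtain ⟨V, W, hV, hW, rfl⟩ := hmem
  rw [conjTranspose_add, conjTranspose_smul, H.inLay_skew hV, H.inLay_skew hW, smul_neg, neg_add] at hskew
  have h0 : (ξ - star ξ) • W = 0 := by
    rw [sub_smul, ← neg_inj.1 (add_left_cancel hskew), sub_self]
  rw [(smul_eq_zero.1 h0).resolve_left hξ', smul_zero, add_zero]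
  exact hV

theorem laySpan_mul (H : Ctx M) (hb4 : 4 ≤ b) {X Y : Matrix α α F} (hX : X ∈ laySpan M) (hY : Y ∈ laySpan M) :
    X * Y ∈ laySpan M := by
  refine laySpan_map (LinearMap.mulRight F Y) (fun G hG => ?_) hX
  refine laySpan_map (LinearMap.mulLeft F G) (fun G' hG' => ?_) hY
  obtain ⟨ξ, hξ⟩ := H.ns
  have h1 := mem_laySpan (H.inLay_prod hb4 hG hG' (one_ne_zero (α := F)))
  have hξ0 : ξ ≠ 0 := fun h => hξ (by rw [h, star_zero])
  have h2 := mem_laySpan (H.inLay_prod hb4 hG hG' hξ0)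
  have := (laySpan M).smul_mem (ξ - star ξ)⁻¹ ((laySpan M).sub_mem h2 ((laySpan M).smul_mem (star ξ) h1))
  convert this using 1
  rw [star_one, show ξ • (G * G') - star ξ • (G' * G) - star ξ • ((1 : F) • (G * G') - (1 : F) • (G' * G)) =
    (ξ - star ξ) • (G * G') by module, smul_smul, inv_mul_cancel₀ (sub_ne_zero.2 hξ.symm), one_smul]
  rfl

theorem laySpan_jordan (H : Ctx M) (hbig : 4 ≤ b ∨ ∃ r : F, star r = r ∧ r ≠ 0 ∧ r ≠ 1) {X G : Matrix α α F}
    (hX : X ∈ laySpan M) (hskew : Xᴴ = -X) (hXX : X * X = 0) (hG : G ∈ laySpan M) :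
    X * G + G * X ∈ laySpan M ∧ X * G * X ∈ laySpan M := by
  rcases hbig with hb4 | hr
  · exact ⟨(laySpan M).add_mem (laySpan_mul H hb4 hX hG) (laySpan_mul H hb4 hG hX),
      laySpan_mul H hb4 (laySpan_mul H hb4 hX hG) hX⟩
  have hXV := inLay_of_mem H hX hskew
  obtain ⟨d, hd0, hd⟩ := H99.TensorU.exists_skew H.ns
  constructor
  · refine laySpan_map (LinearMap.mulLeft F X + LinearMap.mulRight F X) (fun G' hG' => ?_) hG
    have := (laySpan M).smul_mem d⁻¹ (mem_laySpan (H.inLay_jordan hr hXV hXX hG' hd).2)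
    rwa [smul_smul, inv_mul_cancel₀ hd0, one_smul] at this
  · exact laySpan_map ((LinearMap.mulRight F X).comp (LinearMap.mulLeft F X))
      (fun G' hG' => mem_laySpan (H.inLay_jordan hr hXV hXX hG' hd).1) hG

end Two

section Glue

variable {F : Type*} [Field F] [StarRing F] [Finite F] {ι : Type} [Fintype ι] [DecidableEq ι] {m : ℕ}
  {M : Subgroup (GL (ι → Fin m) F)}

theorem laySpan_slot (A : Amb M) (i : ι) (l : {j : ι // j ≠ i}) (g : Matrix (Fin m) (Fin m) F) (hg : g * gᴴ = 1)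
    (hd : g.det = 1) {X : Matrix ({j : ι // j ≠ i} → Fin m) ({j : ι // j ≠ i} → Fin m) F}
    (hX : X ∈ laySpan (slotM i M)) : sl l g * X * (sl l g)ᴴ ∈ laySpan (slotM i M) := by
  refine laySpan_conj (ctx_slot A i) (c := 1) (by simp) ?_ hX
  obtain ⟨y, hy, e⟩ := A.slot l.1 g hg hd
  exact H5.C7.inM_slotM.2 ⟨y, hy, by rw [e, H5.C7.rI_sl_ne, one_smul]⟩

theorem laySpan_perm (A : Amb M) (i : ι) (σ : Equiv.Perm {j : ι // j ≠ i})
    {X : Matrix ({j : ι // j ≠ i} → Fin m) ({j : ι // j ≠ i} → Fin m) F} (hX : X ∈ laySpan (slotM i M)) :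
    wm σ (fun _ => 1) * X * (wm σ (fun _ => 1))ᴴ ∈ laySpan (slotM i M) := by
  classical
  by_cases h3 : 3 ≤ Fintype.card ι
  swap
  · have : Subsingleton {j : ι // j ≠ i} := Fintype.card_le_one_iff_subsingleton.1 (by
      rw [Fintype.card_subtype_compl, Fintype.card_subtype_eq]; omega)
    rw [Subsingleton.elim σ 1, H5.C7.wm_one, conjTranspose_one, Matrix.one_mul, Matrix.mul_one]
    exact hX
  set τ : Equiv.Perm ι := Equiv.Perm.ofSubtype σ with hτ
  have hfix : τ i = i := Equiv.Perm.ofSubtype_apply_of_not_mem σ (fun h => h rfl)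
  have hsub : τ.subtypePerm (H5.C7.perm_ne_iff hfix) = σ :=
    Equiv.ext fun j => Subtype.ext (Equiv.Perm.ofSubtype_apply_coe σ j)
  obtain ⟨c, hc⟩ := A.perm h3 τ
  have hr : InM (slotM i M) ((c • wm σ fun _ => 1) ⊗ₖ (1 : Matrix (Fin m) (Fin m) F)) := by
    obtain ⟨y, hy, e⟩ := hc
    refine H5.C7.inM_slotM.2 ⟨y, hy, ?_⟩
    rw [e, map_smul, H5.C7.rI_wm i τ hfix (H5.C7.perm_ne_iff hfix), hsub, smul_kronecker]
  have hcc : c * star c = 1 := by
    have e := (ctx_slot A i).unit hr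
    rw [H99.TensorU.kron_conjTranspose, ← mul_kronecker_mul, conjTranspose_one, Matrix.one_mul, conjTranspose_smul,
      Matrix.smul_mul, Matrix.mul_smul, smul_smul] at e
    have hW : (wm σ (fun _ => 1) : Matrix ({j : ι // j ≠ i} → Fin m) ({j : ι // j ≠ i} → Fin m) F) *
        (wm σ (fun _ => 1))ᴴ = 1 := by
      have hW' : (wm σ (fun _ => 1) : Matrix ({j : ι // j ≠ i} → Fin m) ({j : ι // j ≠ i} → Fin m) F)ᴴ =
          wm σ⁻¹ fun _ => 1 := by
        ext f g
        rw [conjTranspose_apply, H5.C7.wm_apply, H5.C7.wm_apply, ← starRingEnd_apply, map_prod,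
          ← Equiv.prod_comp σ⁻¹]
        refine Finset.prod_congr rfl fun j _ => ?_
        simp [starRingEnd_apply, Matrix.one_apply, eq_comm, apply_ite (star : F → F)]
      rw [hW', H5.C7.wm_mul, inv_mul_cancel, ← H5.C7.wm_one]
      simp
    have := A.three
    let p : ({j : ι // j ≠ i} → Fin m) × Fin m := (fun _ => ⟨0, by omega⟩, ⟨0, by omega⟩)
    have e' := congrFun (congrFun e p) p
    rw [hW] at e'
    simpa using e'
  exact laySpan_conj (ctx_slot A i) hcc hr hX

/-- A factor with a non-scalar layer gives all transvections, given descent and filling. -/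
theorem centre_of_bad_of (A : Amb M) {i : ι} (hbad : ¬ Good M i)
    (hfill : ∀ (B : Submodule F (Matrix ({j : ι // j ≠ i} → Fin m) ({j : ι // j ≠ i} → Fin m) F)),
      1 ∈ B →
      (∀ l g, g * gᴴ = 1 → g.det = 1 → ∀ X ∈ B, sl l g * X * (sl l g)ᴴ ∈ B) →
      (∀ σ : Equiv.Perm {j : ι // j ≠ i}, ∀ X ∈ B, wm σ (fun _ => 1) * X * (wm σ (fun _ => 1))ᴴ ∈ B) →
      (∀ X ∈ B, Xᴴ = -X → X * X = 0 → ∀ G ∈ B, X * G + G * X ∈ B ∧ X * G * X ∈ B) →
      (4 ≤ m → ∀ X ∈ B, ∀ Y ∈ B, X * Y ∈ B) →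
      (∃ (S : Finset {j : ι // j ≠ i}) (w : {j : ι // j ≠ i} → Fin m → F), S.Nonempty ∧
        (∀ j ∈ S, w j ≠ 0 ∧ sp (w j) (w j) = 0) ∧
        wm 1 (fun j => if j ∈ S then vecMulVec (w j) (star (w j)) else 1) ∈ B) → B = ⊤)
    (hdesc : ∀ (B : Submodule F (Matrix ({j : ι // j ≠ i} → Fin m) ({j : ι // j ≠ i} → Fin m) F)),
      (∀ l g, g * gᴴ = 1 → g.det = 1 → ∀ X ∈ B, sl l g * X * (sl l g)ᴴ ∈ B) →
      ∀ X ∈ B, (∀ c : F, X ≠ c • (1 : Matrix ({j : ι // j ≠ i} → Fin m) ({j : ι // j ≠ i} → Fin m) F)) →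
      ∃ (S : Finset {j : ι // j ≠ i}) (w : {j : ι // j ≠ i} → Fin m → F), S.Nonempty ∧
        (∀ j ∈ S, w j ≠ 0 ∧ sp (w j) (w j) = 0) ∧
        wm 1 (fun j => if j ∈ S then vecMulVec (w j) (star (w j)) else 1) ∈ B)
    (v : (ι → Fin m) → F) (hv : sp v v = 0) : Centre M v := by
  have H := ctx_slot A i
  obtain ⟨w, G, hw0, hw, hG, hns⟩ : ∃ w G, w ≠ 0 ∧ sp w w = 0 ∧
      InM (slotM i M) (1 + G ⊗ₖ vecMulVec w (star w)) ∧
      ∀ c : F, G ≠ c • (1 : Matrix ({j : ι // j ≠ i} → Fin m) ({j : ι // j ≠ i} → Fin m) F) := by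
    by_contra hc
    push Not at hc
    exact hbad fun w G hw0 hw hG => hc w G hw0 hw hG
  have hconj := fun l g hg hd X (hX : X ∈ laySpan (slotM i M)) => laySpan_slot A i l g hg hd hX
  have hstart := hdesc _ hconj G (mem_laySpan (H.inLay_of hw0 hw hG)) hns
  have htop := hfill (laySpan (slotM i M)) (one_mem_laySpan H) hconj (fun σ X hX => laySpan_perm A i σ hX)
    (fun X hX hs hXX G hG => laySpan_jordan H A.big hX hs hXX hG) (fun h4 X hX Y hY => laySpan_mul H h4 hX hY) hstart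
  refine A.centre_of_full i (fun x d hd w hw => ?_) v hv
  refine inLay_of_mem H (X := d • vecMulVec x (star x)) (htop ▸ Submodule.mem_top) ?_ w hw
  rw [conjTranspose_smul, H99.TensorU.vmv_conjTranspose, hd, neg_smul]

end Glue

end Cfsg.Agent.H90.TensorWreathSU
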