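import Cfsg.Agent.H99.TensorU.Generate
import Cfsg.Agent.H58.Wreath.SU.Setup

/-!
Coefficients of layers in a group of isometries containing the right factor, of dimension at least three: closure
under sums, fixed multiples and the products of the unipotent calculus.
-/

set_option autoImplicit false
set_option linter.unusedSectionVars false
set_option maxHeartbeats 400000

namespace Cfsg.Agent.H90.TensorWreathSU

open Matrix
open Cfsg.Agent.H99.Tensor
open Cfsg.Agent.H99.TensorU (sp InLay nil root_unitary exists_move exists_skew exists_trace exists_iso_in exists_iso_perp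
  exists_iso_not_perp₂ partner vmv_add_left vmv_add_right vmv_smul_left vmv_smul_right vmv_conj vmv_mul vmv_mulVec
  vmv_conjTranspose kron_conjTranspose lft_conjTranspose sp_star sp_zero_comm sp_add_left sp_add_right sp_sub_left
  sp_sub_right sp_smul_left sp_smul_right sp_zero_left sp_zero_right)
open scoped Kronecker

section Lay

variable {F : Type*} [Field F] [StarRing F] {α : Type} [Fintype α] [DecidableEq α] {b : ℕ}

local notation "Ix" => α × Fin b

/-- A group of isometries containing the right factor. -/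
structure Ctx (M : Subgroup (GL (α × Fin b) F)) : Prop where
  iso : ∀ y ∈ M, (y : Matrix (α × Fin b) (α × Fin b) F) * (y : Matrix (α × Fin b) (α × Fin b) F)ᴴ = 1
  right : ∀ k : Matrix (Fin b) (Fin b) F, k * kᴴ = 1 → k.det = 1 → InM M ((1 : Matrix α α F) ⊗ₖ k)
  three : 3 ≤ b
  ns : ∃ x : F, star x ≠ x

variable [Finite F] {M : Subgroup (GL (α × Fin b) F)} (H : Ctx M)
include H

theorem Ctx.unit {X : Matrix Ix Ix F} (hX : InM M X) : X * Xᴴ = 1 := by
  obtain ⟨y, hy, rfl⟩ := hX
  exact H.iso y hy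

theorem Ctx.unit' {X : Matrix Ix Ix F} (hX : InM M X) : Xᴴ * X = 1 := mul_eq_one_comm.1 (H.unit hX)

theorem Ctx.conj {A X : Matrix Ix Ix F} (hA : InM M (1 + A)) (hX : InM M X) : InM M (1 + X * A * Xᴴ) :=
  hA.conj hX (H.unit hX)

/-- The root elements of the second factor. -/
theorem Ctx.root {w η : Fin b → F} {c : F} (hw : sp w w = 0) (hη : sp w η = 0)
    (hc : c + star c + sp η η = 0) : InM M (1 + (1 : Matrix α α F) ⊗ₖ nil w η c) := by
  rw [← one_kronecker_one (α := F) (m := α) (n := Fin b), ← kronecker_add]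
  exact H.right _ (root_unitary hw hη hc).1 (root_unitary hw hη hc).2

theorem Ctx.trans {w : Fin b → F} {d : F} (hw : sp w w = 0) (hd : star d = -d) :
    InM M (1 + (d • (1 : Matrix α α F)) ⊗ₖ vecMulVec w (star w)) := by
  have := H.root (η := 0) (c := d) hw (sp_zero_right w) (by rw [hd, sp_zero_left]; ring)
  rw [nil, star_zero, vecMulVec_zero, zero_vecMulVec, sub_zero, zero_add, kronecker_smul] at this
  rwa [smul_kronecker]

/-- Two layers of the same isotropic vector multiply by addition. -/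
theorem Ctx.lay_mul {w : Fin b → F} (hw : sp w w = 0) {G G' : Matrix α α F}
    (hG : InM M (1 + G ⊗ₖ vecMulVec w (star w))) (hG' : InM M (1 + G' ⊗ₖ vecMulVec w (star w))) :
    InM M (1 + (G + G') ⊗ₖ vecMulVec w (star w)) := by
  have := hG.mul hG'
  rwa [Matrix.add_mul, Matrix.one_mul, Matrix.mul_add, Matrix.mul_one, ← mul_kronecker_mul, vmv_mul, hw,
    zero_smul, kronecker_zero, add_zero, add_assoc, add_comm (G' ⊗ₖ _), ← add_kronecker] at this

theorem Ctx.lay_neg {w : Fin b → F} (hw : sp w w = 0) {G : Matrix α α F}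
    (hG : InM M (1 + G ⊗ₖ vecMulVec w (star w))) : InM M (1 + (-G) ⊗ₖ vecMulVec w (star w)) := by
  have := hG.neg (by rw [← mul_kronecker_mul, vmv_mul, hw, zero_smul, kronecker_zero])
  rwa [sub_eq_add_neg, show -(G ⊗ₖ vecMulVec w (star w)) = (-G) ⊗ₖ vecMulVec w (star w) by
    rw [← neg_one_smul F (G ⊗ₖ vecMulVec w (star w)), ← smul_kronecker, neg_one_smul]] at this

/-- The coefficient of a layer is skew. -/
theorem Ctx.lay_skew {w : Fin b → F} (hw0 : w ≠ 0) (hw : sp w w = 0) {G : Matrix α α F}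
    (hG : InM M (1 + G ⊗ₖ vecMulVec w (star w))) : Gᴴ = -G := by
  have h := H.unit hG
  rw [conjTranspose_add, conjTranspose_one, kron_conjTranspose, vmv_conjTranspose, Matrix.add_mul, Matrix.one_mul,
    Matrix.mul_add, Matrix.mul_one, ← mul_kronecker_mul, vmv_mul, hw, zero_smul, kronecker_zero, add_zero,
    add_assoc, add_eq_left, ← add_kronecker] at h
  obtain ⟨k, hk⟩ := Function.ne_iff.1 hw0
  ext i j
  have := congrFun (congrFun h (i, k)) (j, k)
  simp only [kronecker_apply, Matrix.add_apply, vecMulVec_apply, Pi.star_apply, Matrix.zero_apply, mul_eq_zero,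
    star_eq_zero, or_self] at this
  rw [Matrix.neg_apply]
  linear_combination this.resolve_right hk

/-- Layers are moved by the second factor. -/
theorem Ctx.lay_move [Finite F] {w w' : Fin b → F} {G : Matrix α α F} {d : F} (hw : sp w w = 0)
    (hw' : sp w' w' = 0) (h : sp w' w ≠ 0) (hd0 : d ≠ 0) (hd : star d = -d)
    (hG : InM M (1 + G ⊗ₖ vecMulVec w (star w))) :
    InM M (1 + (((d * sp w' w) * star (d * sp w' w)) • G) ⊗ₖ vecMulVec w' (star w')) := by
  obtain ⟨k, hk, hkd, hka⟩ := exists_move hw hw' h hd0 hd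
  have := H.conj hG (H.right k hk hkd)
  rw [kron_conjTranspose, ← mul_kronecker_mul, ← mul_kronecker_mul, conjTranspose_one, Matrix.one_mul,
    Matrix.mul_one, vmv_conj, hka, vmv_smul_left, vmv_smul_right, smul_smul, kronecker_smul, ← smul_kronecker] at this
  exact this

/-- A layer can be scaled by squares of fixed scalars. -/
theorem Ctx.lay_sq {w : Fin b → F} (hw0 : w ≠ 0) (hw : sp w w = 0) {G : Matrix α α F}
    (hG : InM M (1 + G ⊗ₖ vecMulVec w (star w))) {r : F} (hr : star r = r) :
    InM M (1 + ((r * r) • G) ⊗ₖ vecMulVec w (star w)) := by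
  rcases eq_or_ne r 0 with rfl | hr0
  · rw [zero_mul, zero_smul, zero_kronecker, add_zero]; exact InM.one
  obtain ⟨d, hd0, hd⟩ := exists_skew H.ns
  obtain ⟨w', hw'w', h1, h2⟩ := partner H.ns hw0 hw
  have hG1 := H.lay_move hw hw'w' (by rw [h2]; exact one_ne_zero) hd0 hd hG
  have hd2 : star (r / d) = -(r / d) := by rw [star_div₀, hr, hd, div_neg]
  have hG2 := H.lay_move hw'w' hw (by rw [h1]; exact one_ne_zero) (div_ne_zero hr0 hd0) hd2 hG1
  rw [h1, h2, smul_smul, mul_one, mul_one, hd, hd2] at hG2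
  convert hG2 using 4
  field_simp

/-- A layer can be scaled by fixed scalars. -/
theorem Ctx.lay_fixed {w : Fin b → F} (hw0 : w ≠ 0) (hw : sp w w = 0) {G : Matrix α α F}
    (hG : InM M (1 + G ⊗ₖ vecMulVec w (star w))) {r : F} (hr : star r = r) :
    InM M (1 + (r • G) ⊗ₖ vecMulVec w (star w)) := by
  by_cases h2 : (2 : F) = 0
  · have : CharP F 2 := CharTwo.of_one_ne_zero_of_two_eq_zero one_ne_zero h2
    obtain ⟨s, hs⟩ := FiniteField.isSquare_of_char_two (F := F) (ringChar.eq F 2) r
    have hs' : star s = s := by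
      have e : (star s - s) * (star s - s) = 0 := by
        have e' : star s * star s = s * s := by rw [← star_mul', ← hs, hr]
        linear_combination e' + (s * s - s * star s) * h2
      exact sub_eq_zero.1 (mul_self_eq_zero.1 e)
    rw [hs]
    exact H.lay_sq hw0 hw hG hs'
  · have h4 : ∀ x : F, star x = x → star (x / 2) = x / 2 := fun x hx => by rw [star_div₀, hx, star_ofNat]
    have := H.lay_mul hw (H.lay_sq hw0 hw hG (h4 (r + 1) (by rw [star_add, hr, star_one])))
      (H.lay_neg hw (H.lay_sq hw0 hw hG (h4 (r - 1) (by rw [star_sub, hr, star_one]))))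
    rw [← sub_eq_add_neg, ← sub_smul] at this
    convert this using 4
    field_simp
    ring

/-- A coefficient of one layer occurs in all. -/
theorem Ctx.inLay_of {w : Fin b → F} (hw0 : w ≠ 0) (hw : sp w w = 0) {G : Matrix α α F}
    (hG : InM M (1 + G ⊗ₖ vecMulVec w (star w))) : InLay M G := by
  have step : ∀ w w' : Fin b → F, w ≠ 0 → sp w w = 0 → sp w' w' = 0 → sp w' w ≠ 0 →
      InM M (1 + G ⊗ₖ vecMulVec w (star w)) → InM M (1 + G ⊗ₖ vecMulVec w' (star w')) := by
    intro u u' hu0 hu hu' huu hGu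
    obtain ⟨d, hd0, hd⟩ := exists_skew H.ns
    have hμ : d * sp u' u ≠ 0 := mul_ne_zero hd0 huu
    have hm := H.lay_move hu hu' huu hd0 hd hGu
    have hu'0 : u' ≠ 0 := fun h => huu (by rw [h, sp_zero_left])
    have := H.lay_fixed hu'0 hu' hm (r := ((d * sp u' u) * star (d * sp u' u))⁻¹)
      (by rw [star_inv₀, star_mul', star_star, mul_comm])
    rwa [smul_smul, inv_mul_cancel₀ (mul_ne_zero hμ (star_ne_zero.2 hμ)), one_smul] at this
  intro w' hw'
  rcases eq_or_ne w' 0 with rfl | hw'0
  · rw [star_zero, vecMulVec_zero, kronecker_zero, add_zero]; exact InM.one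
  obtain ⟨u, huu, hwu, hw'u⟩ := exists_iso_not_perp₂ H.ns (by rw [Fintype.card_fin]; have := H.three; omega) hw0 hw'0
  have hu0 : u ≠ 0 := fun h => hwu (by rw [h, sp_zero_right])
  exact step u w' hu0 huu hw' hw'u (step w u hw0 hw huu (fun h => hwu (sp_zero_comm.1 h)) hG)

theorem Ctx.exists_iso : ∃ w : Fin b → F, w ≠ 0 ∧ sp w w = 0 := by
  obtain ⟨w, -, h1, h2⟩ := exists_iso_in H.ns (⊤ : Submodule F (Fin b → F)) (by simp; have := H.three; omega)
  exact ⟨w, h1, h2⟩

theorem Ctx.inLay_add {G G' : Matrix α α F} (h : InLay M G) (h' : InLay M G') : InLay M (G + G') :=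
  fun w hw => H.lay_mul hw (h w hw) (h' w hw)

theorem Ctx.inLay_sub {G G' : Matrix α α F} (h : InLay M G) (h' : InLay M G') : InLay M (G - G') := by
  rw [sub_eq_add_neg]
  exact fun w hw => H.lay_mul hw (h w hw) (H.lay_neg hw (h' w hw))

theorem Ctx.inLay_fixed {G : Matrix α α F} (h : InLay M G) {r : F} (hr : star r = r) : InLay M (r • G) := by
  obtain ⟨w, hw0, hw⟩ := H.exists_iso
  exact H.inLay_of hw0 hw (H.lay_fixed hw0 hw (h w hw) hr)

/-- The identity from two layers with a common vector. -/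
theorem Ctx.inLay_prod (hb4 : 4 ≤ b) {G G' : Matrix α α F} (hG : InLay M G) (hG' : InLay M G') {τ : F} (hτ : τ ≠ 0) :
    InLay M (τ • (G * G') - star τ • (G' * G)) := by
  obtain ⟨w, hw0, hw⟩ := H.exists_iso
  obtain ⟨w', hw'w', h1, h2⟩ := partner H.ns hw0 hw
  obtain ⟨x, hx0, hxx, hxp⟩ := exists_iso_perp H.ns ![w, w'] (by rw [Fintype.card_fin]; omega)
  have hwx : sp w x = 0 := hxp 0
  have hw'x : sp w' x = 0 := hxp 1
  obtain ⟨x₁, hx₁, hx₁w, hxx₁⟩ : ∃ x₁, sp x₁ x₁ = 0 ∧ sp w x₁ = 0 ∧ sp x x₁ = 1 := by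
    obtain ⟨z, hzz, hxz, -⟩ := partner H.ns hx0 hxx
    set y := z - sp w' z • w - sp w z • w' with hy
    have hwy : sp w y = 0 := by
      rw [hy, sp_sub_right, sp_sub_right, sp_smul_right, sp_smul_right, hw, h1]; ring
    have hxy : sp x y = 1 := by
      rw [hy, sp_sub_right, sp_sub_right, sp_smul_right, sp_smul_right, sp_zero_comm.1 hwx, sp_zero_comm.1 hw'x, hxz]
      ring
    obtain ⟨t, ht⟩ := exists_trace H.ns (a := -(sp y y)) (by rw [star_neg, sp_star])
    refine ⟨y + t • x, ?_, ?_, ?_⟩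
    · rw [sp_add_left, sp_add_right, sp_add_right, sp_smul_left, sp_smul_left, sp_smul_right, sp_smul_right, hxx,
        hxy, ← sp_star x y, hxy, star_one]
      linear_combination ht
    · rw [sp_add_right, sp_smul_right, hwy, hwx]; ring
    · rw [sp_add_right, sp_smul_right, hxy, hxx]; ring
  set x' := τ • x₁ with hx'
  have hx'x' : sp x' x' = 0 := by rw [hx', sp_smul_left, sp_smul_right, hx₁]; ring
  have hwx' : sp w x' = 0 := by rw [hx', sp_smul_right, hx₁w, mul_zero]
  have hxx' : sp x x' = τ := by rw [hx', sp_smul_right, hxx₁, mul_one]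
  have hx'x : sp x' x = star τ := by rw [← sp_star, hxx']
  have hxw : sp x w = 0 := sp_zero_comm.1 hwx
  have hx'w : sp x' w = 0 := sp_zero_comm.1 hwx'
  have hL : ∀ (G : Matrix α α F) (x : Fin b → F), InLay M G → sp x x = 0 → sp w x = 0 →
      InM M (1 + G ⊗ₖ (vecMulVec w (star x) + vecMulVec x (star w))) := by
    intro G x hG hxx hwx
    have hxw : sp x w = 0 := sp_zero_comm.1 hwx
    have := ((hG (w + x) (by rw [sp_add_left, sp_add_right, sp_add_right, hw, hxx, hwx, hxw]; ring)).mul
      (H.lay_neg hw (hG w hw))).mul (H.lay_neg hxx (hG x hxx))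
    convert this using 1
    rw [show -G = (-1 : F) • G from (neg_one_smul F G).symm]
    simp only [vmv_add_left, vmv_add_right, kronecker_add, Matrix.mul_add, Matrix.add_mul, Matrix.one_mul,
      Matrix.mul_one, ← mul_kronecker_mul, vmv_mul, hw, hxx, hwx, hxw, zero_smul, kronecker_zero, add_zero,
      smul_kronecker, Matrix.smul_mul, Matrix.mul_smul, smul_zero, Matrix.zero_mul]
    module
  set A := G ⊗ₖ (vecMulVec w (star x) + vecMulVec x (star w)) with hA
  set B := G' ⊗ₖ (vecMulVec w (star x') + vecMulVec x' (star w)) with hB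
  have hA1 := hL G x hG hxx hwx
  have hB1 := hL G' x' hG' hx'x' hwx'
  rw [← hA] at hA1
  rw [← hB] at hB1
  have eAA : A * A = 0 := by
    rw [hA, ← mul_kronecker_mul]
    simp [Matrix.mul_add, Matrix.add_mul, vmv_mul, hw, hxx, hwx, hxw]
  have eBB : B * B = 0 := by
    rw [hB, ← mul_kronecker_mul]
    simp [Matrix.mul_add, Matrix.add_mul, vmv_mul, hw, hx'x', hwx', hx'w]
  have eAB : A * B = (τ • (G * G')) ⊗ₖ vecMulVec w (star w) := by
    rw [hA, hB, ← mul_kronecker_mul]
    simp [Matrix.mul_add, Matrix.add_mul, vmv_mul, hw, hwx', hxw, hxx', kronecker_smul, smul_kronecker]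
  have eBA : B * A = (star τ • (G' * G)) ⊗ₖ vecMulVec w (star w) := by
    rw [hA, hB, ← mul_kronecker_mul]
    simp [Matrix.mul_add, Matrix.add_mul, vmv_mul, hw, hwx, hx'w, hx'x, kronecker_smul, smul_kronecker]
  have eABA : A * B * A = 0 := by
    rw [eAB, hA, ← mul_kronecker_mul]
    simp [Matrix.mul_add, vmv_mul, hw, hwx]
  have eBAB : B * A * B = 0 := by
    rw [eBA, hB, ← mul_kronecker_mul]
    simp [Matrix.mul_add, vmv_mul, hw, hwx']
  have hc := ((hA1.mul hB1).mul (hA1.neg eAA)).mul (hB1.neg eBB)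
  have e : (1 + A) * (1 + B) * (1 - A) * (1 - B) - (1 + (A * B - B * A)) =
      -(A * A) - B * B + A * A * B - A * (B * B) - A * B * A + B * A * B + A * B * A * B := by
    noncomm_ring
  rw [eABA, eBAB, eAA, eBB] at e
  simp only [neg_zero, zero_mul, mul_zero, sub_zero, add_zero] at e
  rw [sub_eq_zero.1 e, eAB, eBA] at hc
  refine H.inLay_of hw0 hw ?_
  convert hc using 2
  ext p r
  simp only [kroneckerMap_apply, Matrix.sub_apply, sub_mul]

theorem Ctx.inLay_zero : InLay M (0 : Matrix α α F) := fun w hw => by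
  rw [zero_kronecker, add_zero]; exact InM.one

theorem Ctx.inLay_neg {G : Matrix α α F} (h : InLay M G) : InLay M (-G) := fun w hw => H.lay_neg hw (h w hw)

theorem Ctx.inLay_one {d : F} (hd : star d = -d) : InLay M (d • (1 : Matrix α α F)) := fun w hw => H.trans hw hd

theorem Ctx.inLay_skew {G : Matrix α α F} (h : InLay M G) : Gᴴ = -G := by
  obtain ⟨w, hw0, hw⟩ := H.exists_iso
  exact H.lay_skew hw0 hw (h w hw)

/-- The quadratic product of coefficients with an invertible coefficient whose inverse occurs. -/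
theorem Ctx.inLay_quad {G G' H' : Matrix α α F} (hG : InLay M G) (hG' : InLay M G') (hGH : H' * G = 1)
    (hH : InLay M H') : InLay M (G * G' * G) := by
  obtain ⟨w, hw0, hw⟩ := H.exists_iso
  obtain ⟨w', hw', h1, h2⟩ := partner H.ns hw0 hw
  set U := (1 : Matrix Ix Ix F) + G ⊗ₖ vecMulVec w (star w) with hU
  set V := (1 : Matrix Ix Ix F) + (-H') ⊗ₖ vecMulVec w' (star w') with hV
  have hWM : InM M (U * V * U) := ((hG w hw).mul (H.lay_neg hw' (hH w' hw'))).mul (hG w hw)
  have e1 : U * lft α w' = lft α w' + lft α w * G := by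
    rw [hU, Matrix.add_mul, Matrix.one_mul, kron_lft, vmv_mulVec, h1, one_smul]
  have e2 : V * lft α w' = lft α w' := by
    rw [hV, Matrix.add_mul, Matrix.one_mul, kron_lft, vmv_mulVec, hw', zero_smul, lft_zero, Matrix.zero_mul, add_zero]
  have e3 : V * lft α w = lft α w + lft α w' * (-H') := by
    rw [hV, Matrix.add_mul, Matrix.one_mul, kron_lft, vmv_mulVec, h2, one_smul]
  have e4 : U * lft α w = lft α w := by
    rw [hU, Matrix.add_mul, Matrix.one_mul, kron_lft, vmv_mulVec, hw, zero_smul, lft_zero, Matrix.zero_mul, add_zero]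
  have eW : U * V * U * lft α w' = lft α w * G := by
    have e5 : V * (U * lft α w') = lft α w * G := by
      rw [e1, Matrix.mul_add, e2, ← Matrix.mul_assoc, e3, Matrix.add_mul, Matrix.mul_assoc (lft α w'), Matrix.neg_mul,
        hGH, Matrix.mul_neg, Matrix.mul_one]
      abel
    rw [Matrix.mul_assoc, Matrix.mul_assoc, e5, ← Matrix.mul_assoc, e4]
  have hc := H.conj (hG' w' hw') hWM
  rw [← lft_mid_rgt, ← Matrix.mul_assoc, ← Matrix.mul_assoc, eW] at hc
  have eW' : rgt α (star w') * (U * V * U)ᴴ = -(G * rgt α (star w)) := by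
    have := congrArg Matrix.conjTranspose eW
    rw [conjTranspose_mul _ (lft α w'), conjTranspose_mul _ G, lft_conjTranspose, lft_conjTranspose, H.inLay_skew hG,
      Matrix.neg_mul] at this
    exact this
  rw [Matrix.mul_assoc _ _ (U * V * U)ᴴ, eW', Matrix.mul_neg, ← sub_eq_add_neg] at hc
  have hm : InM M (1 + (-(G * G' * G)) ⊗ₖ vecMulVec w (star w)) := by
    convert hc using 1
    rw [← lft_mid_rgt, Matrix.mul_neg, Matrix.neg_mul, sub_eq_add_neg]
    simp only [Matrix.mul_assoc]
  simpa using H.inLay_neg (H.inLay_of hw0 hw hm)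

/-- With a further fixed scalar: the products with a square-zero coefficient. -/
theorem Ctx.inLay_jordan (hr : ∃ r : F, star r = r ∧ r ≠ 0 ∧ r ≠ 1) {X G' : Matrix α α F} (hX : InLay M X)
    (hXX : X * X = 0) (hG' : InLay M G') {d : F} (hd : star d = -d) :
    InLay M (X * G' * X) ∧ InLay M (d • (X * G' + G' * X)) := by
  obtain ⟨r, hrr, hr0, hr1⟩ := hr
  suffices h : ∀ d : F, d ≠ 0 → star d = -d → InLay M (X * G' * X) ∧ InLay M (d • (X * G' + G' * X)) by
    rcases eq_or_ne d 0 with rfl | hd0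
    · obtain ⟨d₀, hd₀0, hd₀⟩ := exists_skew H.ns
      exact ⟨(h d₀ hd₀0 hd₀).1, by rw [zero_smul]; exact H.inLay_zero⟩
    · exact h d hd0 hd
  intro d hd0 hd
  have key : ∀ s : F, star s = s →
      InLay M (s • (d • (X * G' + G' * X)) + (s * s) • (X * G' * X)) := by
    intro s hs
    have hdd : star (d * d) = d * d := by rw [star_mul', hd]; ring
    have hinv : star d⁻¹ = -d⁻¹ := by rw [star_inv₀, hd, inv_neg]
    have h1 := H.inLay_add (H.inLay_one hd) (H.inLay_fixed hX hs)
    have h2 := H.inLay_sub (H.inLay_one hinv) (H.inLay_fixed hX (r := s / (d * d)) (by rw [star_div₀, hs, hdd]))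
    have h3 := H.inLay_sub (H.inLay_quad h1 hG' ?_ h2) (H.inLay_fixed hG' hdd)
    · convert h3 using 1
      simp only [Matrix.add_mul, Matrix.mul_add, Matrix.smul_mul, Matrix.mul_smul, Matrix.one_mul, Matrix.mul_one]
      module
    · simp only [Matrix.sub_mul, Matrix.mul_add, Matrix.smul_mul, Matrix.mul_smul, Matrix.one_mul, Matrix.mul_one,
        hXX, smul_zero, add_zero]
      match_scalars <;> field_simp
      ring
  have k1 := key 1 (star_one F)
  have k2 := key r hrr
  have hrr' : r - r * r ≠ 0 := by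
    rw [show r - r * r = r * (1 - r) by ring]
    exact mul_ne_zero hr0 (sub_ne_zero.2 hr1.symm)
  have hQ : InLay M (X * G' * X) := by
    have := H.inLay_fixed (H.inLay_sub (H.inLay_fixed k1 hrr) k2) (r := (r - r * r)⁻¹)
      (by rw [star_inv₀, star_sub, star_mul', hrr])
    convert this using 1
    rw [show r • ((1 : F) • (d • (X * G' + G' * X)) + ((1 : F) * 1) • (X * G' * X)) -
      (r • (d • (X * G' + G' * X)) + (r * r) • (X * G' * X)) = (r - r * r) • (X * G' * X) by module, smul_smul,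
      inv_mul_cancel₀ hrr', one_smul]
  refine ⟨hQ, ?_⟩
  have := H.inLay_sub k1 hQ
  convert this using 1
  module

end Lay

section Amb

variable {F : Type*} [Field F] [StarRing F] {ι : Type} [Fintype ι] [DecidableEq ι] {m : ℕ}
  {M : Subgroup (GL (ι → Fin m) F)}

open Cfsg.Agent.H58.Wreath.SU in
/-- The context at a factor. -/
theorem ctx_slot (A : Amb M) (i : ι) : Ctx (H5.C7.slotM i M) where
  iso := fun y hy => by
    obtain ⟨x, hx, e⟩ := H5.C7.inM_slotM.1
      (⟨y, hy, rfl⟩ : InM (H5.C7.slotM i M) (y : Matrix _ _ F))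
    rw [← e, ← rI_conjTranspose, ← map_mul, A.iso x hx, map_one]
  right := fun k hk hd => by
    obtain ⟨y, hy, e⟩ := A.slot i k hk hd
    exact H5.C7.inM_slotM.2 ⟨y, hy, by rw [e, H5.C7.rI_sl_self]⟩
  three := A.three
  ns := A.ns

end Amb

end Cfsg.Agent.H90.TensorWreathSU
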